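import Cfsg.Agent.H906.Cover_m3
import Cfsg.Agent.H912.KnownSplit
import Cfsg.Agent.H936.AltBig2
import Cfsg.Agent.H433.EP.LSn
import Cfsg.Agent.H919.AschSplit
import Cfsg.Prelude.Def_KGroupFacts
import Cfsg.Agent.H762.Ppd.PsuAux_m3
import Cfsg.Agent.H925.NatMain
import Cfsg.Agent.OddHalf.NI.OmegaPlus
import Cfsg.Agent.H905.MdK
import Cfsg.Agent.S0293
import Cfsg.Agent.H948.Ppd.TypeB_m3
import Cfsg.Agent.H887.DS.SixFive
import Cfsg.Agent.H911.AdF
import Cfsg.Agent.H650.Ppd.Psl_m3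
import Cfsg.Agent.H650.Ppd.SpTwo
import Cfsg.Agent.H948.Ppd.PmBase
import Cfsg.Agent.S0245
import Cfsg.Agent.FastGrp
import Cfsg.Agent.Prune
set_option linter.all false

section
prune_inst 0x7f00000000000000000000000000000000000000000000000000000000000000000000000000000000000000000000000000000000000000000000000000000000000000000000000000000000000000003fffffffffffffffffffffffffffbeffbdffffffff

-- part: H2/Rb/Basic
section
set_option linter.all false
open scoped Cfsg.Agent.FastGrp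

-- part: H2/Rb/Defs
section
/-!
# S3691, small primitive primes (S): interface (adapted by helper2 from helper100's interface of S5948)

Subgroups of `GL_n(q)`, `10 ≤ n ≤ 39`, containing an element of prime order `m ∈ {k + 1, 2 k + 1}`, `m` a primitive prime
divisor of `q ^ k - 1`, `n < 2 k`.

* `Num q n k m` : the numbers. Every prime `r ∣ m` has `k ∣ r - 1`, `k + 1 ≤ r`, `n + 3 ≤ 2 r`, `7 ≤ r`.
* `Row k m P` : `P ≤ GL_n(F)` is a core (perfect, simple modulo scalars, absolutely irreducible, over no proper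
  subfield) normalised by an element of order `m`.
* `Nat' P` : the outcome: `P` contains `SL_n`, or all isometries of a symplectic form, or the isometries of
  determinant one of a unitary form, or `Ω` of a quadratic form.
* `Row.exists_aut`, `Row.dvd_card` : `Aut (Soc P)` has an element of order `m`.
* `Num.kill`, `Row.kill` : the numeric criterion for a contradiction.
* `Row.le_of_ls`, `Row.le_of_bd` : lower bounds for `n`.
-/

set_option autoImplicit false
set_option linter.unusedSectionVars false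

namespace Cfsg.Agent.H2.Rb.C100

open Cfsg Cfsg.Geo Matrix
open Cfsg.Agent.H915.LD

universe u v w

/-- The numbers. -/
structure Num (q n k m : ℕ) : Prop where
  ten : 10 ≤ n
  kle : k ≤ n
  nlt : n < 2 * k
  prime : m.Prime
  mle : m ≤ 2 * k + 1
  le39 : n ≤ 39
  bad : q = 2 ∨ (q = 3 ∧ k = 18) ∨ (q = 4 ∧ k = 9) ∨ ((q = 3 ∨ q = 4 ∨ q = 5 ∨ q = 17) ∧ k = 6)
  dvd : m ∣ q ^ k - 1
  prim : ∀ q₀ j i : ℕ, 1 ≤ j → q₀ ^ j = q → 1 ≤ i → i < j * k → Nat.Coprime m (q₀ ^ i - 1)

namespace Num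

variable {q n k m : ℕ} (h : Num q n k m)
include h

theorem cop (i : ℕ) (h1 : 1 ≤ i) (hi : i < k) : Nat.Coprime m (q ^ i - 1) :=
  h.prim q 1 i le_rfl (pow_one q) h1 (by rwa [one_mul])

theorem six_le : 6 ≤ k := by
  have h1 := h.ten
  have h2 := h.nlt
  omega

theorem m_ne : m ≠ 0 := h.prime.ne_zero

theorem one_lt_m : 1 < m := h.prime.one_lt

theorem one_lt_q : 1 < q := by
  by_contra hq
  have h1 := h.dvd
  have h2 := h.six_le
  have h3 := h.cop 1 (le_refl 1) (by omega)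
  have h4 : q = 0 ∨ q = 1 := by omega
  rcases h4 with h4 | h4
  · subst h4
    rw [pow_one, Nat.zero_sub, Nat.coprime_zero_right] at h3
    have := h.one_lt_m
    omega
  · subst h4
    rw [pow_one, Nat.sub_self, Nat.coprime_zero_right] at h3
    have := h.one_lt_m
    omega

/-- primes dividing `m` have `q` of order exactly `k` -/
theorem pow_eq_one_iff {r : ℕ} (hr : r.Prime) (hrm : r ∣ m) (i : ℕ) : ((q : ZMod r)) ^ i = 1 ↔ k ∣ i := by
  have : Fact r.Prime := ⟨hr⟩
  have hq := h.one_lt_q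
  have key : ∀ i, ((q : ZMod r)) ^ i = 1 ↔ r ∣ q ^ i - 1 := by
    intro i
    have h1 : 1 ≤ q ^ i := Nat.one_le_pow _ _ (by omega)
    rw [← ZMod.natCast_eq_zero_iff, Nat.cast_sub h1, Nat.cast_pow, Nat.cast_one, sub_eq_zero]
  have hk : ((q : ZMod r)) ^ k = 1 := (key k).2 (hrm.trans h.dvd)
  constructor
  · intro hi
    have h1 : orderOf (q : ZMod r) ∣ k := orderOf_dvd_of_pow_eq_one hk
    have h2 : orderOf (q : ZMod r) ∣ i := orderOf_dvd_of_pow_eq_one hi
    have hk0 : 0 < k := by have := h.six_le; omega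
    have h3 : orderOf (q : ZMod r) = k := by
      by_contra hne
      have h4 : orderOf (q : ZMod r) ≤ k := Nat.le_of_dvd hk0 h1
      have h5 : 0 < orderOf (q : ZMod r) := Nat.pos_of_dvd_of_pos h1 hk0
      have h6 := h.cop _ h5 (lt_of_le_of_ne h4 hne)
      have h7 : r ∣ q ^ orderOf (q : ZMod r) - 1 := (key _).1 (pow_orderOf_eq_one _)
      have h8 := Nat.dvd_gcd hrm h7
      rw [Nat.Coprime] at h6
      rw [h6] at h8
      exact hr.one_lt.ne' (Nat.dvd_one.1 h8)
    rwa [h3] at h2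
  · rintro ⟨j, rfl⟩
    rw [pow_mul, hk, one_pow]

theorem not_dvd_q {r : ℕ} (hr : r.Prime) (hrm : r ∣ m) : ¬ r ∣ q := by
  intro hq
  have h1 := hrm.trans h.dvd
  have h2 : r ∣ q ^ k := dvd_pow hq (by have := h.six_le; omega)
  have h3 : 1 ≤ q ^ k := Nat.one_le_pow _ _ (by have := h.one_lt_q; omega)
  have h4 : r ∣ 1 := by
    have h5 := (Nat.dvd_sub h2 h1)
    have h6 : q ^ k - (q ^ k - 1) = 1 := by omega
    rwa [h6] at h5
  exact hr.one_lt.ne' (Nat.dvd_one.1 h4)

/-- `k ∣ r - 1` -/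
theorem dvd_sub_one {r : ℕ} (hr : r.Prime) (hrm : r ∣ m) : k ∣ r - 1 := by
  have : Fact r.Prime := ⟨hr⟩
  rw [← h.pow_eq_one_iff hr hrm]
  apply ZMod.pow_card_sub_one_eq_one
  intro h0
  rw [ZMod.natCast_eq_zero_iff] at h0
  exact h.not_dvd_q hr hrm h0

theorem succ_le {r : ℕ} (hr : r.Prime) (hrm : r ∣ m) : k + 1 ≤ r := by
  have h1 := Nat.le_of_dvd (by have := hr.one_lt; omega) (h.dvd_sub_one hr hrm)
  have := hr.one_lt
  omega

theorem le_two_mul {r : ℕ} (hr : r.Prime) (hrm : r ∣ m) : n + 3 ≤ 2 * r := by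
  have h1 := h.succ_le hr hrm
  have h2 := h.nlt
  omega

theorem seven_le {r : ℕ} (hr : r.Prime) (hrm : r ∣ m) : 7 ≤ r := by
  have h1 := h.succ_le hr hrm
  have h2 := h.six_le
  omega

theorem exists_prime : ∃ r, r.Prime ∧ r ∣ m := ⟨m, h.prime, dvd_rfl⟩

theorem eq_or : m = k + 1 ∨ m = 2 * k + 1 := by
  obtain ⟨c, hc⟩ := h.dvd_sub_one h.prime dvd_rfl
  have h1 := h.prime.one_lt
  have h2 := h.mle
  have h3 := h.six_le
  have h4 : c < 3 := by
    by_contra hcon
    have : k * 3 ≤ k * c := Nat.mul_le_mul_left k (by omega)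
    omega
  interval_cases c <;> omega

end Num

variable {n : ℕ} {F : Type u} [Field F] [Finite F] {k m : ℕ} {P : Subgroup (GL (Fin n) F)}

/-- **A row.** -/
structure Row (k m : ℕ) (P : Subgroup (GL (Fin n) F)) : Prop where
  core : Core P
  num : Num (Nat.card F) n k m
  elt : ∃ g : GL (Fin n) F, orderOf g = m ∧ ∀ x ∈ P, g * x * g⁻¹ ∈ P

/-- **The outcome**: `P` is one of the classical groups of `F^n`. -/
def Nat' (P : Subgroup (GL (Fin n) F)) : Prop :=
  specialLinear (Fin n) F ≤ P ∨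
  (∃ f : (Fin n → F) → (Fin n → F) → F, IsSymplecticForm f ∧
    ∀ x : GL (Fin n) F, FixesForm {(x : Matrix (Fin n) (Fin n) F)} f → x ∈ P) ∨
  (∃ (τ : F ≃+* F) (f : (Fin n → F) → (Fin n → F) → F), IsUnitaryForm τ f ∧
    ∀ x : GL (Fin n) F, FixesForm {(x : Matrix (Fin n) (Fin n) F)} f →
      Matrix.GeneralLinearGroup.det x = 1 → x ∈ P) ∨
  (∃ Q : (Fin n → F) → F, IsNondegenerateQuadraticForm Q ∧ omegaGL Q ≤ P)

end Cfsg.Agent.H2.Rb.C100
end

-- part: H2/Rb/Basic
section
/-!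
# S3691 (S): basic consequences of a row (adapted by helper2 from helper100's file for S5948)

`Row.exists_aut`, `Row.exists_aut'`, `Row.dvd_card` : an automorphism of order `m` of `Soc P`;
`Row.exists_elt` : an element of order `m` of `T`, if `m` is prime to `|Out T|`;
`Row.le_of_ls`, `Row.le_of_bd` : degree bounds.
-/

set_option autoImplicit false
set_option linter.unusedSectionVars false

namespace Cfsg.Agent.H2.Rb.C100

open Cfsg Cfsg.Geo Matrix
open Cfsg.Agent.H915.LD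

universe u v w

variable {n : ℕ} {F : Type u} [Field F] [Finite F] {k m : ℕ} {P : Subgroup (GL (Fin n) F)}

/-- The scalars of `P` are preserved by every automorphism of `P` (`P` absolutely irreducible). -/
theorem scalars_eq_center (hP : ActsAbsolutelyIrreducibly (matrixSet P)) :
    (scalars (Fin n) F).subgroupOf P = Subgroup.center P := by
  apply le_antisymm scalars_le_center
  intro z hz
  rw [Subgroup.mem_subgroupOf]
  refine H920.mem_scalars_of_comm' hP ?_
  intro x hx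
  have := (Subgroup.mem_center_iff.1 hz) ⟨x, hx⟩
  exact (congrArg Subtype.val this).symm

/-- An automorphism of `P` induces one of `Soc P`. -/
noncomputable def socAut (hP : ActsAbsolutelyIrreducibly (matrixSet P)) : MulAut P →* MulAut (Soc P) where
  toFun φ := QuotientGroup.congr _ _ φ (by
    rw [scalars_eq_center hP]
    exact Subgroup.characteristic_iff_map_eq.1 inferInstance φ)
  map_one' := by
    ext x
    induction x using QuotientGroup.induction_on with
    | H x => rfl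
  map_mul' a b := by
    ext x
    induction x using QuotientGroup.induction_on with
    | H x => rfl

theorem mem_normalizer {g : GL (Fin n) F} (hg : ∀ x ∈ P, g * x * g⁻¹ ∈ P) :
    g ∈ Subgroup.normalizer (P : Set (GL (Fin n) F)) := by
  rw [Subgroup.mem_normalizer_iff]
  have hinj : Function.Injective (fun x : P => (⟨g * x * g⁻¹, hg x x.2⟩ : P)) := by
    intro a b hab
    have h1 : g * (a : GL (Fin n) F) * g⁻¹ = g * b * g⁻¹ := congrArg Subtype.val hab
    exact Subtype.ext (mul_left_cancel (mul_right_cancel h1))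
  intro x
  refine ⟨fun hx => hg x hx, fun hx => ?_⟩
  obtain ⟨y, hy⟩ := (Finite.injective_iff_surjective.1 hinj) ⟨_, hx⟩
  have h1 : g * (y : GL (Fin n) F) * g⁻¹ = g * x * g⁻¹ := congrArg Subtype.val hy
  have h2 : (y : GL (Fin n) F) = x := mul_left_cancel (mul_right_cancel h1)
  rw [← h2]
  exact y.2

/-- conjugation by `g`, `g` in the normaliser of `P`, on `Soc P` -/
noncomputable def conjSoc (hP : ActsAbsolutelyIrreducibly (matrixSet P)) :
    Subgroup.normalizer (P : Set (GL (Fin n) F)) →* MulAut (Soc P) :=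
  (socAut hP).comp P.normalizerMonoidHom

theorem conjSoc_mk (hP : ActsAbsolutelyIrreducibly (matrixSet P)) (g : Subgroup.normalizer (P : Set (GL (Fin n) F)))
    (x : P) : conjSoc hP g (toSoc P x) = toSoc P ⟨g * x * (g : GL (Fin n) F)⁻¹,
      (Subgroup.mem_normalizer_iff.1 g.2 x).1 x.2⟩ := rfl

/-- what acts trivially on `Soc P` is scalar -/
theorem scalar_of_conjSoc (hC : Core P) {g : Subgroup.normalizer (P : Set (GL (Fin n) F))}
    (h : conjSoc hC.absIrred g = 1) : (g : GL (Fin n) F) ∈ scalars (Fin n) F := by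
  have h1 : ∀ x ∈ P, (g : GL (Fin n) F) * x * (g : GL (Fin n) F)⁻¹ * x⁻¹ ∈ scalars (Fin n) F := by
    intro x hx
    have h2 : conjSoc hC.absIrred g (toSoc P ⟨x, hx⟩) = toSoc P ⟨x, hx⟩ := by rw [h]; rfl
    rw [conjSoc_mk] at h2
    obtain ⟨c, hc⟩ := exists_of_toSoc_eq h2
    simp only at hc
    rw [mem_scalars_iff]
    refine ⟨c⁻¹, ?_⟩
    have h3 : (g : GL (Fin n) F) * x * (g : GL (Fin n) F)⁻¹ * x⁻¹ =
      (g : GL (Fin n) F) * x * (g : GL (Fin n) F)⁻¹ * x⁻¹ := rfl
    have h4 : (((g : GL (Fin n) F) * x * (g : GL (Fin n) F)⁻¹ : GL (Fin n) F) : Matrix (Fin n) (Fin n) F) =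
        ((c⁻¹ : Fˣ) : F) • (x : Matrix (Fin n) (Fin n) F) := by
      rw [hc, smul_smul, ← Units.val_mul, inv_mul_cancel, Units.val_one, one_smul]
    rw [Units.val_mul, h4, Matrix.smul_mul, ← Units.val_mul, mul_inv_cancel, Units.val_one]
  have h2 := H919.commute_of_perfect hC.perfect (H919.scalars_comm (ι := Fin n) (F := F)) h1
  exact H920.mem_scalars_of_comm' hC.absIrred h2

theorem Num.coprime_sub_one {q n k m : ℕ} (h : Num q n k m) : Nat.Coprime m (q - 1) := by
  have h1 := h.cop 1 (le_refl 1) (by have := h.six_le; omega)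
  rwa [pow_one] at h1

/-- a scalar of order dividing a power of `m` is trivial -/
theorem Row.eq_one_of_scalar (h : Row k m P) {g : GL (Fin n) F} (hg : g ∈ scalars (Fin n) F) (hgm : g ^ m = 1) :
    g = 1 := by
  obtain ⟨c, hc⟩ := (mem_scalars_iff g).1 hg
  have hcard : (c : F) ^ (Nat.card F - 1) = 1 := by
    have : Fintype F := Fintype.ofFinite F
    rw [Nat.card_eq_fintype_card]
    exact FiniteField.pow_card_sub_one_eq_one _ c.ne_zero
  have h1 : g ^ (Nat.card F - 1) = 1 := by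
    apply Units.ext
    rw [Units.val_pow_eq_pow_val, hc, smul_pow, hcard, one_pow, one_smul]
    rfl
  have h2 := Nat.dvd_gcd (orderOf_dvd_of_pow_eq_one hgm) (orderOf_dvd_of_pow_eq_one h1)
  have h3 : Nat.gcd m (Nat.card F - 1) = 1 := h.num.coprime_sub_one
  rw [h3, Nat.dvd_one, orderOf_eq_one_iff] at h2
  exact h2

/-- **An automorphism of order `m`.** -/
theorem Row.exists_aut (h : Row k m P) : ∃ x : MulAut (Soc P), orderOf x = m := by
  obtain ⟨g, hgm, hg⟩ := h.elt
  have hN := mem_normalizer hg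
  refine ⟨conjSoc h.core.absIrred ⟨g, hN⟩, ?_⟩
  apply Nat.dvd_antisymm
  · apply orderOf_dvd_of_pow_eq_one
    rw [← map_pow]
    have h1 : (⟨g, hN⟩ : Subgroup.normalizer (P : Set (GL (Fin n) F))) ^ m = 1 := by
      apply Subtype.ext
      rw [Subgroup.coe_pow, ← hgm, pow_orderOf_eq_one]
      rfl
    rw [h1, map_one]
  · conv_lhs => rw [← hgm]
    apply orderOf_dvd_of_pow_eq_one
    set j := orderOf (conjSoc h.core.absIrred ⟨g, hN⟩) with hj
    have h1 : conjSoc h.core.absIrred (⟨g, hN⟩ ^ j) = 1 := by rw [map_pow, hj, pow_orderOf_eq_one]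
    have h2 := scalar_of_conjSoc h.core h1
    rw [Subgroup.coe_pow] at h2
    apply h.eq_one_of_scalar h2
    rw [← pow_mul, mul_comm, pow_mul]
    simp only
    rw [← hgm, pow_orderOf_eq_one, one_pow]

section equiv

variable {T : Type v} [Group T] (e : Soc P ≃* T)

theorem Row.exists_aut' (h : Row k m P) (e : Soc P ≃* T) : ∃ x : MulAut T, orderOf x = m := by
  obtain ⟨x, hx⟩ := h.exists_aut
  refine ⟨MulAut.congr e x, ?_⟩
  rw [← hx]
  exact orderOf_injective (MulAut.congr e).toMonoidHom (MulAut.congr e).injective x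

instance finite_soc (P : Subgroup (GL (Fin n) F)) : Finite (Soc P) := inferInstance

theorem Row.dvd_card (h : Row k m P) (e : Soc P ≃* T) : m ∣ Nat.card (MulAut T) := by
  obtain ⟨x, hx⟩ := h.exists_aut' e
  rw [← hx]
  exact orderOf_dvd_natCard x

theorem Row.simple (h : Row k m P) (e : Soc P ≃* T) : IsSimpleGroup T :=
  have := h.core.simple
  (e.symm.isSimpleGroup)

theorem Row.not_comm (h : Row k m P) (e : Soc P ≃* T) : ¬ IsMulCommutative T := by
  intro hc
  apply h.core.nonabelian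
  refine ⟨⟨fun a b => e.injective ?_⟩⟩
  rw [map_mul, map_mul]
  exact hc.is_comm.comm _ _

/-- an element of order `m` -/
theorem Row.exists_elt (h : Row k m P) (e : Soc P ≃* T) (hcop : m.Coprime (Nat.card (Cfsg.Out T))) :
    ∃ y : T, orderOf y = m := by
  obtain ⟨x, hx⟩ := h.exists_aut' e
  have hfinT : Finite T := Finite.of_equiv _ e.toEquiv
  have hsimple := h.simple e
  have hcen : Subgroup.center T = ⊥ := by
    rcases hsimple.eq_bot_or_eq_top_of_normal (Subgroup.center T) inferInstance with h1 | h1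
    · exact h1
    · exfalso
      apply h.not_comm e
      refine ⟨⟨fun a b => ?_⟩⟩
      have : b ∈ Subgroup.center T := by rw [h1]; trivial
      exact (Subgroup.mem_center_iff.1 this) a
  have hinj : Function.Injective (MulAut.conj : T →* MulAut T) := by
    rw [← MonoidHom.ker_eq_bot_iff, eq_bot_iff, ← hcen]
    intro y hy
    rw [MonoidHom.mem_ker] at hy
    rw [Subgroup.mem_center_iff]
    intro z
    have h1 : (MulAut.conj y) z = z := by rw [hy]; rfl
    rw [MulAut.conj_apply] at h1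
    calc z * y = (y * z * y⁻¹) * y := by rw [h1]
      _ = y * z := by group
  have hmem : x ∈ Inn T := by
    have h1 : ((x : Cfsg.Out T)) ^ Nat.card (Cfsg.Out T) = 1 := pow_card_eq_one'
    have h2 : ((x : Cfsg.Out T)) ^ m = 1 := by
      rw [← QuotientGroup.mk_pow, ← hx, pow_orderOf_eq_one, QuotientGroup.mk_one]
    have h3 := Nat.dvd_gcd (orderOf_dvd_of_pow_eq_one h2) (orderOf_dvd_of_pow_eq_one h1)
    rw [hcop, Nat.dvd_one, orderOf_eq_one_iff, QuotientGroup.eq_one_iff] at h3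
    exact h3
  obtain ⟨y, hy⟩ := hmem
  refine ⟨y, ?_⟩
  rw [← hx, ← hy]
  exact (orderOf_injective _ hinj y).symm

theorem Row.le_of_ls (h : Row k m P) (e : Soc P ≃* T) {r d : ℕ} (hrF : (r : F) ≠ 0)
    (hLS : H203.LS.LS.{v, u, u} r d T) : d ≤ n := by
  have := h.simple e
  exact H912.Bd.le_of_ls hLS hrF P h.core.perfect e

theorem Row.le_of_bd (h : Row k m P) (e : Soc P ≃* T) {r d : ℕ}
    (hr : (Nat.card ((scalars (Fin n) F).subgroupOf P)).Coprime r) (hBd : H912.Bd.Bd F r d T) : d ≤ n :=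
  hBd n (h.core.pr e hr)

end equiv

end Cfsg.Agent.H2.Rb.C100
end
end

-- part: H2/Rb/PPlus_mg
section
set_option linter.all false
open scoped Cfsg.Agent.FastGrp

-- part: H2/Rb/PPlus
section
/-!
# S3691 (S), small primes, the row `PΩ⁺_{2l}(K)` in its own characteristic (from helper156's file for S5948, adapted by helper2)

**`nat_pplus`** : `Soc P ≃ PΩ⁺_{2l}(K)`, `char K = char F`, `l ≥ 4`, a prime divisor of `m` divides `|Soc P|`: `P = Ω(Q)`.
-/

set_option autoImplicit false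
set_option linter.unusedSectionVars false

namespace Cfsg.Agent.H2.Rb.C156

open Cfsg.Agent.H156.Ppd

open CoxeterSystem Cfsg.Agent.ChevalleyStructure.CoxeterGeom Cfsg.Agent.Tits.Roots Cfsg.Agent.Tits.Core
  Cfsg.Agent.Nodes.Reps Cfsg.Agent.Nodes.BNOf Cfsg.Agent.Nodes.Bruhat Cfsg.Agent.Nodes.RGDLib
open QuadraticMap
open Cfsg.Agent.LieClassical Cfsg.Agent.LieClassical.OrthCore Cfsg.Agent.LieClassical.OrthTrans
open Cfsg.Agent.LieClassical.OrthSimple Cfsg.Agent.LieClassical.OrthFinite Cfsg.Agent.LieClassical.OrthForms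
open Cfsg.Agent.TitsThree Cfsg.Agent.TitsThree.KSideO Cfsg.Agent.TitsThree.StdData
open Cfsg.Agent.Nodes Cfsg.Agent.Nodes.WittAll Cfsg.Agent.Nodes.WittInst Cfsg.Agent.Nodes.WittU
  Cfsg.Agent.TitsThree.Siegel Cfsg.Agent.TitsThree.SiegelGen
  Cfsg.Agent.TitsThree.WittFrame Cfsg.Agent.TitsThree.WBridge Cfsg.Agent.TitsThree.WittWeyl
  Cfsg.Agent.TitsThree.FrameCN
open Cfsg.Agent.Nodes.WittRoot (Mono)
open Cfsg.Agent.Nodes.WittRGD (Tor)
open Cfsg.Agent.H905.Md Cfsg.Agent.H915.LD Cfsg.Agent.H925.Nat Cfsg.Agent.H2.Rb.C100 Cfsg.Agent.H911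
open Cfsg.Agent.H67.Cross
open Cfsg.Agent.KFacts.MulOdd.Inst (Lv)
open Cfsg.Agent.OddHalf.NI.Mult (up lo dg Coord)
open Cfsg Cfsg.Geo
open scoped MatrixGroups Matrix

universe u

/-! ### arithmetic -/

section arith

variable {q n k m : ℕ} (h : Num q n k m) {r : ℕ} (hr : r.Prime) (hrm : r ∣ m)
include h hr hrm

theorem dvd_mul_of_dvd {j e : ℕ} (hd : r ∣ (q ^ j) ^ e - 1) : k ∣ j * e := by
  rw [← h.pow_eq_one_iff hr hrm]
  have hq := h.one_lt_q
  have h1 : 1 ≤ (q ^ j) ^ e := Nat.one_le_pow _ _ (Nat.one_le_pow _ _ (by omega))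
  rw [← ZMod.natCast_eq_zero_iff, Nat.cast_sub h1, Nat.cast_pow, Nat.cast_pow, Nat.cast_one, sub_eq_zero,
    ← pow_mul] at hd
  exact hd

/-- the bound for the dimension -/
theorem plus_lt {l : ℕ} (hl : 4 ≤ l) {j : ℕ} (hj : 1 ≤ j) {N g : ℕ}
    (hcard : g * N = (q ^ j) ^ (l * (l - 1)) * ((q ^ j) ^ l - 1) * ∏ i ∈ Finset.range (l - 1), ((q ^ j) ^ (2 * (i + 1)) - 1))
    (hd : r ∣ N) : n < 4 * (l - 1) * j := by
  have hd' : r ∣ g * N := hd.mul_left g
  rw [hcard] at hd'
  have key : ∀ {e : ℕ}, 0 < e → e ≤ 2 * (l - 1) → r ∣ (q ^ j) ^ e - 1 → n < 4 * (l - 1) * j := by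
    intro e he0 he hre
    have h1 := Nat.le_of_dvd (Nat.mul_pos hj he0) (dvd_mul_of_dvd h hr hrm hre)
    have h2 := h.nlt
    have h3 : j * e ≤ j * (2 * (l - 1)) := Nat.mul_le_mul_left _ he
    calc n < 2 * k := h2
      _ ≤ 2 * (j * (2 * (l - 1))) := Nat.mul_le_mul_left _ (h1.trans h3)
      _ = 4 * (l - 1) * j := by ring
  rcases hr.dvd_mul.1 hd' with h1 | h1
  · rcases hr.dvd_mul.1 h1 with h2 | h2
    · exact absurd (hr.dvd_of_dvd_pow (hr.dvd_of_dvd_pow h2)) (h.not_dvd_q hr hrm)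
    · exact key (by omega) (by omega) h2
  · rw [Prime.dvd_finsetProd_iff hr.prime] at h1
    obtain ⟨i, hi, h2⟩ := h1
    rw [Finset.mem_range] at hi
    exact key (by omega) (by omega) h2

end arith

/-! ### the group `Ω⁺` -/

section group

variable {K : Type} [Field K] [Finite K] {n : ℕ}

theorem hfin (n : ℕ) : Finite ((Fin (n + 2) ⊕ Fin (n + 2) → K) ≃ₗ[K] (Fin (n + 2) ⊕ Fin (n + 2) → K)) :=
  Finite.of_injective (fun g : (Fin (n + 2) ⊕ Fin (n + 2) → K) ≃ₗ[K] (Fin (n + 2) ⊕ Fin (n + 2) → K) =>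
    (g : (Fin (n + 2) ⊕ Fin (n + 2) → K) → (Fin (n + 2) ⊕ Fin (n + 2) → K))) DFunLike.coe_injective

/-- the torus -/
abbrev TT (n : ℕ) (K : Type) [Field K] : Subgroup (E (plusForm (n + 2) K)) :=
  (Tor (toFrame (wplus (n + 2) K)) (E (plusForm (n + 2) K))).subgroupOf (E (plusForm (n + 2) K))

/-- the root groups -/
abbrev XX (n : ℕ) (K : Type) [Field K] (x : Fin (n + 2) → ℤ) : Subgroup (E (plusForm (n + 2) K)) :=
  (WittRGDD.rg (toFrame (wplus (n + 2) K)) x).subgroupOf (E (plusForm (n + 2) K))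

theorem TT_comm : ∀ s ∈ TT n K, ∀ t ∈ TT n K, s * t = t * s := by
  intro s hs t ht
  have hA := amb_plus (F := K) (n + 2)
  exact Subtype.ext (torus_comm hA.V0 (Or.inl rfl) (hA.iso _ s.2) (hA.iso _ t.2) hs.2 ht.2)

theorem TT_pow {Q : ℕ} (hQ : ∀ a : K, a ^ Q = a) : ∀ t ∈ TT n K, t ^ Q = t := by
  intro t ht
  have hA := amb_plus (F := K) (n + 2)
  exact Subtype.ext (torus_pow hA.V0 (Or.inl rfl) hQ (hA.iso _ t.2) ht.2)

theorem dg_mem (i : Fin (n + 2)) (t : Kˣ) : OddHalf.NI.OmegaPlus.s (wplus (n + 2) K) i (dg t) ∈ TT n K := by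
  rw [Subgroup.mem_subgroupOf]
  refine ⟨Subtype.property _, fun z => ⟨_, ?_, OddHalf.NI.OmegaPlus.s_dg_apply (wplus (n + 2) K) i t z⟩⟩
  exact Units.ne_zero _

theorem ts (x : Fin (n + 2)) : TS (TT n K) (XX n K (-sr x)) :=
  ts_of_lo (OddHalf.NI.OmegaPlus.s (wplus (n + 2) K) x) ((OddHalf.NI.OmegaPlus.coord (wplus (n + 2) K)).lo x) (dg_mem x)

theorem card_XX (x : Fin (n + 2)) : Nat.card (XX n K (-sr x)) = Nat.card K := by
  have h1 := (OddHalf.NI.OmegaPlus.coord (wplus (n + 2) K)).lo x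
  have h2 : Function.Injective fun a : K => OddHalf.NI.OmegaPlus.s (wplus (n + 2) K) x (lo a) := by
    intro a b hab
    have h3 : (lo a : Matrix.SpecialLinearGroup (Fin 2) K) = lo b := OddHalf.NI.OmegaPlus.phi_injective _ _ hab
    have h4 := congrArg (fun g : Matrix.SpecialLinearGroup (Fin 2) K => g.1 1 0) h3
    simpa [lo] using h4
  have h3 : Nat.card (XX n K (-sr x)) = Nat.card (Set.range fun a : K =>
      OddHalf.NI.OmegaPlus.s (wplus (n + 2) K) x (lo a)) := by
    rw [← h1]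
    rfl
  rw [h3, Nat.card_range_of_injective h2]

theorem noCE {p : ℕ} (hp : p.Prime) [CharP K p] (i : Fin (n + 2)) {r : ℕ} (hr : r.Prime) (hne : r ≠ p) :
    NoCE p r ↥(Lv (XX n K) i) :=
  noCE_of_coord (OddHalf.NI.OmegaPlus.coord (wplus (n + 2) K)) (OddHalf.NI.OmegaPlus.phi_injective _ _) hp hr hne

end group

/-- **The row.** -/
theorem nat_pplus {F : Type u} [Field F] [Finite F] {n k m : ℕ} {P : Subgroup (GL (Fin n) F)} (h : Row k m P)
    (hg : ∃ r, r.Prime ∧ r ∣ m ∧ r ∣ Nat.card (Soc P)) (p : ℕ) [hp : Fact p.Prime] [CharP F p]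
    {K : Type} [Field K] [Fintype K] [CharP K p] {l : ℕ} (hl : 4 ≤ l)
    (e : Soc P ≃* POmega K (quadFormPlus l K)) : Nat' P := by
  classical
  obtain ⟨d, rfl⟩ : ∃ d, l = d + 2 := ⟨l - 2, by omega⟩
  have hC := h.core
  obtain ⟨r, hr, hrm, hrc⟩ := hg
  have hcard := S0293.result (F := K) rfl (d + 2) hl
  rw [Nat.card_congr e.toEquiv] at hrc
  have hG : _root_.Cfsg.Agent.LieClassical.OrthTrans.Good (plusForm (d + 2) K) := by
    apply good_of_finite (nondeg_plusForm (d + 2) K)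
    rw [Module.finrank_fintype_fun_eq_card, Fintype.card_sum, Fintype.card_fin]
    omega
  rw [← coe_plusForm] at e
  have hfin := hfin (K := K) d
  have hA := amb_plus (F := K) (d + 2)
  have h0 := adm_plus (F := K) (d + 2)
  have hWf : Finite (TypeD.M d).Group := TypeD.finite_W (TypeD.M d).toCoxeterSystem
  have hR := rgd_restrict (rgdD hA h0 (TypeD.M d).toCoxeterSystem (p := p))
    (E (plusForm (d + 2) K)) (fun x _ => rgD_le _ hA x) (fun i => WittRGDD.nn_mem hA i)
  have hperf : commutator ↥(E (plusForm (d + 2) K)) = ⊤ := Five.commutator_top hG.E_perfect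
  have hG1 : G1 (TypeD.M d).toCoxeterSystem (TypeD.isCartan d) (XX d K) = ⊤ := by
    have h1 := G1D_eq_top (wplus (d + 2) K) (MonoidHom.id (E (plusForm (d + 2) K))) Function.surjective_id h0
      (TypeD.M d).toCoxeterSystem
    rw [← h1]
    congr 1
    funext x
    exact (Subgroup.map_id _).symm
  obtain ⟨Y, _, _, f, φ, n₁, C⟩ := H156.Ppd.exists_cov hC hR hG1 hperf (toPOmega_surjective hG) e
  have hpp : p.Prime := Fact.out
  have rk : ∀ i, ∀ r : ℕ, r.Prime → r ≠ p → NoCE p r ↥(Lv (XX d K) i) := fun i r hr hne => noCE hpp i hr hne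
  have hT : ∀ s ∈ (TT d K).comap f, ∀ t ∈ (TT d K).comap f, s * t = t * s :=
    comap_comm C.ker C.cop C.surj hR rk C.gen TT_comm
  obtain ⟨a, ha⟩ : ∃ a : ℕ+, Fintype.card K = p ^ (a : ℕ) := ⟨(FiniteField.card K p).choose, (FiniteField.card K p).choose_spec.2⟩
  have hpow : ∀ t ∈ (TT d K).comap f, t ^ p ^ (a : ℕ) = t :=
    comap_pow C.ker C.cop C.surj hR rk C.gen TT_comm (TT_pow fun x => by rw [← ha]; exact FiniteField.pow_card x)
  have hD := C.finrank_D hC hT
  obtain ⟨j, hj1, hj⟩ := C.exists_j hC hT a.pos.ne' hpow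
  rw [← ha] at hj
  have hlt : n < 4 * (d + 1) * j := by
    rw [← hj] at hcard
    exact plus_lt h.num hr hrm hl hj1 hcard hrc
  have hKc : Nat.card K = Nat.card F ^ j := by rw [hj, Nat.card_eq_fintype_card]
  have hIo : ∀ i, i ∉ Jx (TypeD.M d).toCoxeterSystem (TypeD.isCartan d) (fun x => Nodes.RGDLift.lft p f (XX d K x)) (lrep φ) →
      j ≤ Module.finrank F (Io (TypeD.M d).toCoxeterSystem (TypeD.isCartan d) ((TT d K).comap f)
        (fun x => Nodes.RGDLift.lft p f (XX d K x)) (lrep φ) i) + 1 := by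
    intro i hi
    exact C.edge_Io hR hC hi hD (by rw [card_XX, hKc]) (ts i)
  have hnV := C.nontriv hC
  have hdim : Module.finrank F (Fin n → F) = n := by rw [Module.finrank_fintype_fun_eq_card, Fintype.card_fin]
  by_cases hd4 : d = 2
  · exfalso
    subst hd4
    have h1 := dFour mAD4_eq C.rgd (C.hirr hC) C.gen (C.hnt hC) hD hIo (by rw [hdim]; exact hlt)
    rw [hdim] at h1
    have := h.num.ten
    omega
  · have hd3 : 3 ≤ d := by omega
    obtain ⟨hJ, hL⟩ := DSg.dAll C.rgd (C.hirr hC) hd3 C.gen (C.hnt hC) hD hIo (by rw [hdim]; exact hlt)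
    obtain ⟨σ, θ, hθ⟩ := C.ident hC (ψ := _root_.Cfsg.Agent.H925.Nat.mt (E (plusForm (d + 2) K))) (o := (0 : Fin (d + 2)))
      (span_E hG (by rw [Fintype.card_sum, Fintype.card_fin]; omega))
      (natAt_D hA (by omega) rfl (TypeD.M d).toCoxeterSystem)
      (fixD (by omega) rfl (TypeD.M d).toCoxeterSystem) (surjD hA rfl) hR hJ hD hL
    obtain ⟨τ, rfl⟩ := ringEquiv_of_surj σ (identify_surj hC hθ)
    have hCj : CjOf (omegaGL (quadFormPlus (d + 2) F)) P := by
      refine cjOf_of (mem_omega_iff'' hG) (map_omega_glm τ fun v => ?_) hθ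
      rw [coe_plusForm]
      exact quadFormPlus_map τ v
    obtain ⟨Q₁, hQ₁, hP, -⟩ := hCj.omega_form (by
      rw [← coe_plusForm]
      exact H925.isND_of_nondeg (nondeg_plusForm (d + 2) F))
    exact Or.inr (Or.inr (Or.inr ⟨Q₁, hQ₁, hP.ge⟩))

end Cfsg.Agent.H2.Rb.C156
end

-- part: H2/Rb/Psl
section
/-!
# S3691 (S), small primes: `PSL_N(K)` in its own characteristic (from helper650's file for S5948, adapted by helper2)

* `nd_A` : the nodes of `SL(l + 1, E)`;
* `Row.le_of_dvd` : `r ∣ m`, `r ∣ |K| ^ e - 1`, `|K| = |F| ^ j` imply `k ≤ j e`;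
* **`nat_psl`** : `Row k m P`, `Soc P ≃ PSL_N(K)`, `char K = char F` imply `Nat' P`.
-/

set_option autoImplicit false
set_option linter.unusedSectionVars false
set_option linter.style.haveILetI false

namespace Cfsg.Agent.H2.Rb.C650

open Cfsg.Agent.H650.Ppd

open Matrix CoxeterSystem Cfsg.Agent.ChevalleyStructure.CoxeterGeom Cfsg.Agent.Tits.Roots Cfsg.Agent.Tits.Core
  Cfsg.Agent.Tits.Exchange Cfsg.Agent.Nodes.Reps Cfsg.Agent.Nodes.BNOf Cfsg.Agent.Nodes.StabComb
  Cfsg.Agent.Nodes.Bruhat Cfsg.Agent.Nodes.OppDec Cfsg.Agent.Nodes.LeviDec Cfsg.Agent.KFacts.RgdOpp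
  Cfsg.Agent.Omega.CR Cfsg.Agent.Omega.FOne.Lift.Sd Cfsg.Agent.H905.Md Cfsg.Agent.Nodes.RootsA
open Cfsg Cfsg.Geo
open Cfsg.Agent.H911 (lin)
open Cfsg.Agent.H911.Ad (bk bk_U bk_Lo bk_hh_mem)
open Cfsg.Agent.LieRecognition.BNCox (cA)
open Cfsg.Agent.Nodes.RGDTypeA (X_sr X_neg_sr mem_XX)
open Cfsg.Agent.H915.LD (Core Soc)
open Cfsg.Agent.H2.Rb.C100 (Row Num Nat')

universe u v

/-! ### nodes -/

theorem nd_A {E : Type*} [Field E] {l : ℕ} (i : Fin l) :
    Nd (Nodes.RGDTypeA.T (Fin (l + 1)) E) (Nodes.RGDTypeA.X E) i (bk E i) where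
  up x := by
    rw [X_sr, mem_XX]
    simp only [bk_U]
  lo x := by
    rw [X_neg_sr, mem_XX]
    simp only [bk_Lo]
  tor s := bk_hh_mem i s

/-! ### orders -/

section order

variable {n : ℕ} {F : Type u} [Field F] [Finite F] {k m : ℕ} {P : Subgroup (GL (Fin n) F)}

theorem le_of_dvd {q : ℕ} (h : Num q n k m) {r : ℕ} (hr : r.Prime) (hrm : r ∣ m) {Q j e : ℕ} (hQ : q ^ j = Q)
    (hj : 1 ≤ j) (he : 1 ≤ e) (hd : r ∣ Q ^ e - 1) : k ≤ j * e := by
  have : Fact r.Prime := ⟨hr⟩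
  refine Nat.le_of_dvd (Nat.mul_pos hj he) ?_
  rw [← h.pow_eq_one_iff hr hrm]
  have hq := h.one_lt_q
  have h1 : 1 ≤ Q ^ e := Nat.one_le_pow _ _ (by rw [← hQ]; exact Nat.pow_pos (by omega))
  rw [← ZMod.natCast_eq_zero_iff, Nat.cast_sub h1, Nat.cast_pow, Nat.cast_one, sub_eq_zero] at hd
  rw [← hd, ← hQ, Nat.cast_pow, pow_mul]

/-- a prime divisor of `m` dividing `|SL_N(K)|` -/
theorem le_of_dvd_sl (h : Row k m P) {K : Type*} [Field K] [Fintype K] {j N : ℕ} (hj : 1 ≤ j)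
    (hjK : Nat.card F ^ j = Nat.card K) (hN : 2 ≤ N) {r : ℕ} (hr : r.Prime) (hrm : r ∣ m)
    (hd : r ∣ Nat.card (_root_.Matrix.SpecialLinearGroup (Fin N) K)) : k ≤ j * N := by
  rw [H953.card_SL N (by omega), hr.dvd_mul] at hd
  rcases hd with hd | hd
  · exfalso
    have h1 := hr.dvd_of_dvd_pow hd
    rw [← Nat.card_eq_fintype_card, ← hjK] at h1
    exact h.num.not_dvd_q hr hrm (hr.dvd_of_dvd_pow h1)
  · obtain ⟨e, he, hde⟩ := (Prime.dvd_finsetProd_iff hr.prime _).1 hd
    rw [Finset.mem_Icc] at he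
    have h1 := le_of_dvd h.num hr hrm (hjK.trans Nat.card_eq_fintype_card) hj (by omega) hde
    exact h1.trans (Nat.mul_le_mul_left _ he.2)

end order

/-! ### the bound -/

section bound

variable {F : Type u} [Field F] [Finite F] {ι : Type} [Fintype ι] [DecidableEq ι] {P : Subgroup (GL ι F)}
  {K : Type} [Field K] [Fintype K] (p : ℕ) [hp : Fact p.Prime] [hFp : CharP F p] [hKp : CharP K p] {l : ℕ}
include hp hFp hKp

/-- `n ≥ N + C(N, 2) (2 ^ j - 2)` -/
theorem card_ge_A (hC : Core P) (hl : 2 ≤ l) (Φ : Soc P ≃* ProjectiveSpecialLinearGroup (Fin (l + 1)) K) {j : ℕ}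
    (hj : Nat.card K = Nat.card F ^ j) :
    (l + 1) + (l + 1).choose 2 * (2 ^ j - 2) ≤ Fintype.card ι := by
  obtain ⟨φ, hφ, -, -⟩ := psl_cover p hC.perfect (by omega) (fun h => by omega) Φ
  have h2 := nonempty_of_psl hC.perfect (by omega) (fun h => by omega) Φ
  haveI : Nonempty ι := Fintype.card_pos_iff.1 (by omega)
  haveI : Finite (cA l).Group := finite_W (cA l).toCoxeterSystem (isCartan l)
  haveI hchar : CharP (AlgebraicClosure F) p := charP_of_injective_algebraMap (algebraMap F _).injective p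
  have R := Nodes.RGDTypeA.rgd (cA l).toCoxeterSystem (isCartan l) (F := K) (p := p)
  have hG := gg_eq_top (T := Nodes.RGDTypeA.T (Fin (l + 1)) K)
    (Nodes.RGDTypeA.G1_eq_top (F := K) (cA l).toCoxeterSystem (isCartan l))
  have hirr := ac_irr R hG slT_comm hφ hC.absIrred
  have hD := finrank_D R hirr slT_comm
  obtain ⟨i, hi⟩ := exists_not_mem R hirr (by rw [hD, Module.finrank_fintype_fun_eq_card]; omega)
  obtain ⟨d, hd2, hd⟩ := edge_pow_of_card R hG slT_comm hφ hC.absIrred (nd_A i) hi hj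
  have h3 := dim_ge_A R hirr hi
  have h4 := finrank_Io R hirr i
  rw [hd, hD] at h4
  rw [hD, mul_one, Module.finrank_fintype_fun_eq_card] at h3
  have h5 : 2 ^ j ≤ d ^ j := Nat.pow_le_pow_left hd2 j
  have h6 : l + 1 ≤ (l + 1).choose (i.val + 1) := by
    have h3 := i.2
    by_cases h4 : i.val = 0
    · rw [h4]; simp
    · by_cases h5 : i.val + 1 = l
      · rw [h5, Nat.choose_succ_self_right]
      · have h6 := choose_two_le (m := l + 1) (k := i.val + 1) (by omega) (by omega)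
        refine le_trans ?_ h6
        rw [Nat.choose_two_right, Nat.le_div_iff_mul_le (by norm_num)]
        rw [Nat.add_sub_cancel]
        exact Nat.mul_le_mul le_rfl (by omega)
  have h7 : (l + 1).choose 2 * (2 ^ j - 2) ≤ (l + 1).choose 2 *
      Module.finrank (AlgebraicClosure F) (Io (cA l).toCoxeterSystem (isCartan l)
        (Nodes.RGDTypeA.T (Fin (l + 1)) K) (Nodes.RGDTypeA.X K) (lin (acRep φ)) i) :=
    Nat.mul_le_mul_left _ (by omega)
  exact (Nat.add_le_add h6 h7).trans h3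

end bound

/-! ### `SL_3(K)` in dimension 10 -/

section three

variable {F : Type u} [Field F] [Finite F] {ι : Type} [Fintype ι] [DecidableEq ι] {P : Subgroup (GL ι F)}
  {E : Type*} [Field E] [Finite E] (p : ℕ) [hp : Fact p.Prime] [hFp : CharP F p] [hEp : CharP E p]
include hp hFp hEp

open Cfsg.Agent.H887.DS in
theorem card_eq_of_ten (hC : Core P) (Φ : Soc P ≃* ProjectiveSpecialLinearGroup (Fin 3) E)
    (hn : Fintype.card ι = 10) : Nat.card E = Nat.card F := by
  haveI : Nonempty ι := Fintype.card_pos_iff.1 (by omega)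
  obtain ⟨φ, hφ, -, -, hirr, ε, v, ψ, a, b, hv0, hψ0, ha, hb, hf, hc⟩ := exists_rep3 p hC Φ (by omega)
  obtain ⟨j, hj, hFE⟩ := psl_card (l := 2) p hC.absIrred hC.perfect (by norm_num) (fun h => by omega) Φ hC.no_subfield
  have key : ∀ c, OneCase p 3 c (Fintype.card ι) → ∃ r i, 1 ≤ r ∧ r < p ∧ c = r * p ^ i := by
    rintro c (⟨r, e, hr, hrp, hce, -⟩ | ⟨e, e', -, -, hn'⟩)
    · exact ⟨r, e, hr, hrp, hce⟩
    · omega
  rcases hc with ⟨rfl, hc⟩ | ⟨rfl, hc⟩ | ⟨-, h6, h9⟩
  · obtain ⟨r, i, hr, hrp, rfl⟩ := key _ hc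
    exact card_eq_of_dvd hj hFE hr hrp (Cfsg.Agent.H887.DS.dvd_zero p hirr hv0 hψ0 le_rfl hf)
  · obtain ⟨r, i, hr, hrp, rfl⟩ := key _ hc
    exact card_eq_of_dvd hj hFE hr hrp (Cfsg.Agent.H887.DS.dvd_last p hirr hv0 hψ0 le_rfl hf)
  · omega

end three

/-! ### arithmetic -/

theorem four_lt_two_pow {j : ℕ} (hj : 4 ≤ j) : 4 * j ≤ 2 ^ j := by
  induction j, hj using Nat.le_induction with
  | base => norm_num
  | succ j hj ih => rw [pow_succ]; omega

theorem two_pow_bound {j : ℕ} (hj : 2 ≤ j) : 2 * j ≤ 2 ^ j := by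
  induction j, hj using Nat.le_induction with
  | base => norm_num
  | succ j hj ih => rw [pow_succ]; omega

theorem two_pow_bound' {j : ℕ} (hj : 3 ≤ j) : 2 * j + 1 ≤ 2 ^ j := by
  induction j, hj using Nat.le_induction with
  | base => norm_num
  | succ j hj ih => rw [pow_succ]; omega

/-- `N + C(N, 2) (2 ^ j - 2) ≥ 2 j N`, `N ≥ 4`, `j ≥ 2` -/
theorem arith_A {N j : ℕ} (hN : 4 ≤ N) (hj : 2 ≤ j) : 2 * (j * N) ≤ N + N.choose 2 * (2 ^ j - 2) := by
  have h1 : 3 * N ≤ 2 * N.choose 2 := by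
    have h2 : N.choose 2 * 2 = N * (N - 1) := by
      rw [Nat.choose_two_right, Nat.div_mul_cancel]
      exact (Nat.even_mul_pred_self N).two_dvd
    rw [mul_comm 2, h2, mul_comm 3]
    exact Nat.mul_le_mul_left _ (by omega)
  have h2 := two_pow_bound hj
  obtain ⟨x, hx⟩ : ∃ x, 2 ^ j = x + 2 := ⟨2 ^ j - 2, by omega⟩
  rw [hx, Nat.add_sub_cancel]
  have h3 : 2 * (j - 1) ≤ x := by omega
  obtain ⟨i, rfl⟩ : ∃ i, j = i + 1 := ⟨j - 1, by omega⟩
  rw [Nat.add_sub_cancel] at h3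
  have h4 : 2 * (N.choose 2 * x) ≥ 3 * N * x := by
    rw [← mul_assoc]
    exact Nat.mul_le_mul_right _ h1
  have h5 : 3 * N * x ≥ 3 * N * (2 * i) := Nat.mul_le_mul_left _ h3
  have hi : 1 ≤ i := by omega
  have h6 : N ≤ N * i := Nat.le_mul_of_pos_right _ hi
  linarith only [h4, h5, h6]

/-! ### the row -/

section row

variable {n : ℕ} {F : Type u} [Field F] [Finite F] {k m : ℕ} {P : Subgroup (GL (Fin n) F)}
  {K : Type} [Field K] [Fintype K] (p : ℕ) [hp : Fact p.Prime] [hFp : CharP F p] [hKp : CharP K p]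
include hp hFp hKp

/-- **`PSL_N(K)` in its own characteristic.** -/
theorem nat_psl (h : Row k m P) (hg : ∃ r, r.Prime ∧ r ∣ m ∧ r ∣ Nat.card (Soc P)) {N : ℕ} (hN : 2 ≤ N)
    (h4 : N = 2 → 4 ≤ Fintype.card K) (e : Soc P ≃* Matrix.ProjectiveSpecialLinearGroup (Fin N) K) : Nat' P := by
  have hC := h.core
  have hn := h.num
  obtain ⟨l, rfl⟩ : ∃ l, N = l + 1 := ⟨N - 1, by omega⟩
  have hK4 : l = 1 → 4 ≤ Nat.card K := fun hl => by
    rw [Nat.card_eq_fintype_card]; exact h4 (by omega)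
  obtain ⟨j, hj, hjK⟩ := psl_card p hC.absIrred hC.perfect (by omega) hK4 e hC.no_subfield
  have hk : k ≤ j * (l + 1) := by
    obtain ⟨r, hr, hrm, hrT⟩ := hg
    refine le_of_dvd_sl h hj hjK hN hr hrm (hrT.trans ?_)
    rw [Nat.card_congr e.toEquiv]
    exact Subgroup.card_quotient_dvd_card _
  have hn10 := hn.ten
  have hnlt : n < 2 * (j * (l + 1)) := lt_of_lt_of_le hn.nlt (Nat.mul_le_mul_left _ hk)
  rcases Nat.lt_or_ge l 2 with hl | hl
  · -- `N = 2`
    exfalso
    obtain rfl : l = 1 := by omega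
    have := Fintype.ofFinite F
    obtain ⟨s, d, hs0, hs, hd2, hd⟩ := H875.Psl2.exists_pow p hC e
    rw [Fintype.card_fin] at hd
    have hsj : s = j := by
      rw [Nat.card_eq_fintype_card, Nat.card_eq_fintype_card, hs] at hjK
      exact (Nat.pow_right_injective (Fintype.one_lt_card (α := F)) hjK).symm
    subst hsj
    have h5 : 2 ^ s ≤ d ^ s := Nat.pow_le_pow_left hd2 s
    rcases Nat.lt_or_ge s 4 with h6 | h6
    · interval_cases s
      · omega
      · omega
      · rcases Nat.lt_or_ge d 3 with h7 | h7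
        · obtain rfl : d = 2 := by omega
          omega
        · have := Nat.pow_le_pow_left h7 3
          omega
    · have := four_lt_two_pow h6
      omega
  · have hjK' : Nat.card K = Nat.card F ^ j := hjK.symm
    rcases Nat.lt_or_ge j 2 with hj1 | hj2
    · obtain rfl : j = 1 := by omega
      have hl5 : 5 ≤ l := by omega
      have h5 : n < (l + 1).choose 2 := by
        have h6 : (l + 1).choose 2 * 2 = (l + 1) * l := by
          rw [Nat.choose_two_right, Nat.add_sub_cancel, Nat.div_mul_cancel]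
          rw [mul_comm]
          exact (Nat.even_mul_succ_self l).two_dvd
        nlinarith only [hnlt, hl5, h6]
      have h6 := psl_dim p hC.absIrred hC.perfect (by omega) hK4 e hl (Or.inl (by rwa [Fintype.card_fin]))
      rw [Fintype.card_fin] at h6
      obtain ⟨-, h7⟩ := psl_eq p hC.absIrred hC.perfect (by omega) hK4 e hC.no_subfield h6
      exact Or.inl h7.ge
    · exfalso
      have h5 := card_ge_A p hC hl e hjK'
      rw [Fintype.card_fin] at h5
      rcases Nat.lt_or_ge l 3 with hl3 | hl3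
      · obtain rfl : l = 2 := by omega
        have h6 : (2 + 1).choose 2 = 3 := rfl
        rw [h6] at h5
        rcases Nat.lt_or_ge j 3 with hj3 | hj3
        · obtain rfl : j = 2 := by omega
          have h7 := H887.DS.dim3 p hC e (by rw [Fintype.card_fin]; omega)
          rw [Fintype.card_fin] at h7
          have h8 := card_eq_of_ten p hC e (by rw [Fintype.card_fin]; omega)
          rw [hjK'] at h8
          have h9 : 1 < Nat.card F := Finite.one_lt_card
          nlinarith only [h8, h9]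
        · have := two_pow_bound' hj3
          omega
      · have := arith_A (N := l + 1) (j := j) (by omega) hj2
        omega

end row

end Cfsg.Agent.H2.Rb.C650
end

-- part: H2/Rb/Psp
section
/-!
# S3691 (S), small primes: `PSp_2l(K)` in its own characteristic (from helper650's file for S5948, adapted by helper2)

* `exists_card` : `|F| ^ j = |K|`; `le_of_dvd_sp` : `k ≤ 2 l j`;
* `cjOf_sp` : `l ≥ 3`, `10 ≤ |ι| < 4 l j` : `P` is the symplectic group;
* **`nat_psp`**.
-/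

set_option autoImplicit false
set_option linter.unusedSectionVars false
set_option linter.style.haveILetI false

namespace Cfsg.Agent.H2.Rb.C650

open Cfsg.Agent.H650.Ppd

open CoxeterSystem Cfsg.Agent.ChevalleyStructure.CoxeterGeom Cfsg.Agent.Tits.Roots Cfsg.Agent.Tits.Core
  Cfsg.Agent.Nodes.Reps Cfsg.Agent.Nodes.BNOf Cfsg.Agent.Nodes.Bruhat Cfsg.Agent.Nodes.RGDLib
open Cfsg.Agent.Nodes Cfsg.Agent.Nodes.WittRoot Cfsg.Agent.Nodes.WittRGD Cfsg.Agent.Nodes.WittAll
open Cfsg.Agent.Nodes.TypeC (isCartan)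
open Cfsg.Agent.TitsThree Cfsg.Agent.TitsThree.Siegel Cfsg.Agent.TitsThree.WittFrame Cfsg.Agent.TitsThree.FrameCN
open Cfsg.Agent.H915.LD Cfsg.Agent.H911 Cfsg.Agent.H905.Md Cfsg.Agent.H925.Nat Cfsg.Agent.Nodes.RGDLift
open Cfsg.Agent.H156.Ppd (Cov lrep)
open Cfsg.Agent.H948.Ppd (TB XB NB exists_covB identify_B lift_nd lift_comm_pow)
open Cfsg.Agent.Omega.CR Cfsg.Agent.Omega.FOne.Lift.Sd
open Cfsg Cfsg.Geo
open Cfsg.Agent.H2.Rb.C100 (Row Num Nat')
open scoped MatrixGroups Matrix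

universe u

section core

variable {F : Type u} [Field F] [Finite F] {ι : Type} [Fintype ι] [DecidableEq ι] {P : Subgroup (GL ι F)}
  {K : Type} [Field K] [Finite K] (p : ℕ) [hp : Fact p.Prime] [hFp : CharP F p] [hKp : CharP K p] {l : ℕ}
include hp hFp hKp

/-- the order of the field -/
theorem exists_card (hC : Core P) (hm : 0 < l) (hK : 3 ≤ l ∨ (l = 2 ∧ 3 ≤ Nat.card K) ∨ 4 ≤ Nat.card K)
    (e : Soc P ≃* PSp l K) : ∃ j, 1 ≤ j ∧ Nat.card F ^ j = Nat.card K := by
  have := Fintype.ofFinite K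
  haveI := hC.nonempty
  obtain ⟨a, -, ha⟩ := FiniteField.card K p
  have hcard : Nat.card K = p ^ (a : ℕ) := by rw [Nat.card_eq_fintype_card, ha]
  have hfr : Fr P (Nat.card K) := fun g hg => (psp_both p hC.absIrred hC.perfect hm hK e hg).1
  rw [hcard] at hfr
  obtain ⟨j, hj, hj'⟩ := card_pow_eq (F := F) p a.ne_zero (hC.pow_eq p hfr)
  exact ⟨j, by omega, by rw [hcard, hj']⟩

/-- **The identification.** -/
theorem cjOf_sp (hC : Core P) (hl : 3 ≤ l) (e : Soc P ≃* PSp l K) {j : ℕ} (hj : 1 ≤ j)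
    (hjK : Nat.card K = Nat.card F ^ j) (h10 : 10 ≤ Fintype.card ι) (hlt : Fintype.card ι < 4 * (l * j)) :
    CjOf (spGL l F) P := by
  haveI := hC.nonempty
  have hWf : Finite (CoxeterMatrix.B l).Group := TypeC.finite_W (CoxeterMatrix.B l).toCoxeterSystem
  have hA : AmbT (SpIdent.frame l K) p (KInstSp.model l K).I := AmbT.of_amb Nodes.WittU.amb_Sp p
  have hp0 : (SpIdent.adm (m := l) (1 : K)).c ≠ 0 := one_ne_zero
  have hperf : commutator ↥(KInstSp.model l K).I = ⊤ := commutator_isos hl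
  obtain ⟨Y, _, _, f, φ, n₁, C⟩ := exists_covB hC hA hp0 (by omega) hperf e
  have hrg : ∀ x, Nodes.WittRoot.rg (SpIdent.frame l K) x ≤ (KInstSp.model l K).I := fun x => hA.rg_le x
  have hT' : ∀ s ∈ TB (KInstSp.model l K), ∀ t ∈ TB (KInstSp.model l K), s * t = t * s := by
    intro s hs t ht
    apply Subtype.ext
    exact torus_comm hA.V0 (Or.inl rfl) (hA.iso _ s.2) (hA.iso _ t.2) hs.2 ht.2
  have hnd : ∀ i, ∃ σ' : SL(2, K) →* (KInstSp.model l K).I,
      H948.Ppd.Nd (TB (KInstSp.model l K)) (XB (KInstSp.model l K)) i σ' := by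
    intro i
    obtain ⟨σ, h⟩ := nd_Sp (G0 := (KInstSp.model l K).I) hrg i
    exact ⟨σ, h.up, h.lo, h.tor⟩
  obtain ⟨hT, -⟩ := lift_comm_pow (N₀ := Nat.card K) C hp0 hT' (fun i => by
    obtain ⟨σ', h⟩ := hnd i
    refine ⟨K, inferInstance, inferInstance, inferInstance, σ', h, fun x => ?_⟩
    have := Fintype.ofFinite K
    rw [Nat.card_eq_fintype_card, FiniteField.pow_card])
  have hN : ∀ i, ∃ σ : SL(2, K) →* Y, Nd ((TB (KInstSp.model l K)).comap f)
      (fun x => lft p f (XB (KInstSp.model l K) x)) i σ := by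
    intro i
    obtain ⟨σ', h⟩ := hnd i
    obtain ⟨σ, -, h'⟩ := lift_nd C hp0 h
    exact ⟨σ, Nd.ofH948 h'⟩
  obtain ⟨-, hJ, hL⟩ := num_B C.rgd C.hGG hT C.range hC.absIrred hN hl hj hjK h10 hlt
  obtain ⟨τ, θ, hθ⟩ := identify_B hC hA hp0 (by omega)
    (span_of_matrixSet mem_spGL_iff' (H931.spGL_absIrreducible (by omega))) C hT (o := ⟨0, by omega⟩) rfl
    (fun i hi => Fin.ext (hJ i hi)) (hL _ rfl)
  exact cjOf_of mem_spGL_iff' (map_spGL_glm τ l) hθ

end core

section row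

variable {n : ℕ} {F : Type u} [Field F] [Finite F] {k m : ℕ} {P : Subgroup (GL (Fin n) F)}

/-- a prime divisor of `m` dividing `|Sp_2l(K)|` -/
theorem le_of_dvd_sp (h : Row k m P) {K : Type*} [Field K] [Fintype K] {j l : ℕ} (hj : 1 ≤ j)
    (hjK : Nat.card F ^ j = Nat.card K) {r : ℕ} (hr : r.Prime) (hrm : r ∣ m)
    (hd : r ∣ Nat.card (Matrix.symplecticGroup (Fin l) K)) : k ≤ j * (2 * l) := by
  rw [Cfsg.Agent.S0245.result (F := K) rfl l, hr.dvd_mul] at hd
  rcases hd with hd | hd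
  · exfalso
    have h1 := hr.dvd_of_dvd_pow hd
    rw [← Nat.card_eq_fintype_card, ← hjK] at h1
    exact h.num.not_dvd_q hr hrm (hr.dvd_of_dvd_pow h1)
  · obtain ⟨e, he, hde⟩ := (Prime.dvd_finsetProd_iff hr.prime _).1 hd
    rw [Finset.mem_range] at he
    have h1 := le_of_dvd h.num hr hrm (hjK.trans Nat.card_eq_fintype_card) hj (by omega) hde
    exact h1.trans (Nat.mul_le_mul_left _ (by omega))

variable {K : Type} [Field K] [Fintype K] (p : ℕ) [hp : Fact p.Prime] [hFp : CharP F p] [hKp : CharP K p]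
include hp hFp hKp

/-- **`PSp_2l(K)` in its own characteristic.** -/
theorem nat_psp (h : Row k m P) (hg : ∃ r, r.Prime ∧ r ∣ m ∧ r ∣ Nat.card (Soc P)) {l : ℕ} (hl : 2 ≤ l)
    (h3 : l = 2 → 3 ≤ Fintype.card K) (e : Soc P ≃* PSp l K) : Nat' P := by
  have hC := h.core
  have hn := h.num
  have hK : 3 ≤ l ∨ (l = 2 ∧ 3 ≤ Nat.card K) ∨ 4 ≤ Nat.card K := by
    rcases Nat.lt_or_ge l 3 with h1 | h1
    · exact Or.inr (Or.inl ⟨by omega, by rw [Nat.card_eq_fintype_card]; exact h3 (by omega)⟩)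
    · exact Or.inl h1
  obtain ⟨j, hj, hjK⟩ := exists_card p hC (by omega) hK e
  have hk : k ≤ j * (2 * l) := by
    obtain ⟨r, hr, hrm, hrT⟩ := hg
    refine le_of_dvd_sp h hj hjK hr hrm (hrT.trans ?_)
    rw [Nat.card_congr e.toEquiv]
    exact Subgroup.card_quotient_dvd_card _
  have hn10 := hn.ten
  have hnlt : n < 2 * (j * (2 * l)) := lt_of_lt_of_le hn.nlt (Nat.mul_le_mul_left _ hk)
  have h4 : 2 * (j * (2 * l)) = 4 * (l * j) := by ring
  rw [h4] at hnlt
  rcases Nat.lt_or_ge l 3 with h1 | h1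
  · exfalso
    obtain rfl : l = 2 := by omega
    have h5 := le_card_psp4 p hC e (e := j) (by omega) hjK.symm
    rw [Fintype.card_fin] at h5
    omega
  · have h5 := cjOf_sp p hC h1 e hj hjK.symm (by rw [Fintype.card_fin]; exact hn10)
      (by rw [Fintype.card_fin]; exact hnlt)
    obtain ⟨f, hf, h6⟩ := h5.sp_form
    refine Or.inr (Or.inl ⟨f, hf, fun x hx => (h6 x).2 fun u v => hx _ rfl u v⟩)

end row

end Cfsg.Agent.H2.Rb.C650
end

private theorem dce_77a5323cac8c : _root_.True := by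
  try have : _root_.True := by simp only [_root_.Cfsg.Agent.OddHalf.NI.Mult.lo.eq_1]
  exact _root_.True.intro
end
end
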